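import Groth.Prelude.Def_Cyc
import Groth.Agent.CycLib.RatSum
import Groth.Agent.H23.FlatClass
import Groth.Agent.MorLib.LimPoints
import Mathlib.AlgebraicGeometry.AffineTransitionLimit
import Mathlib.CategoryTheory.Filtered.Basic

/-! Cycles on limits of schemes with affine transition maps: descent of a point of the limit. -/

set_option autoImplicit false
set_option linter.style.haveILetI false

universe u

open AlgebraicGeometry CategoryTheory Limits IsLocalRing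

namespace Groth.Agent.CycLim

open Groth.Agent

theorem topIso_resLE {X Y : Scheme.{u}} (f : X ⟶ Y) {U : Y.Opens} {W : X.Opens} (e : W ≤ f ⁻¹ᵁ U)
    (t : Γ((U : Scheme.{u}), ⊤)) :
    W.topIso.hom ((f.resLE U W e).app ⊤ t) = f.appLE U W e (U.topIso.hom t) :=
  (congrArg W.topIso.hom.hom (congr($(Scheme.Hom.resLE_app_top (f := f) (U := U) (V := W) e) t))).trans
    (Iso.inv_hom_id_apply _ _)

theorem germ_appLE {X Y : Scheme.{u}} (g : X ⟶ Y) {V : Y.Opens} {W : X.Opens} (h : W ≤ g ⁻¹ᵁ V)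
    (s : Γ(Y, V)) (z : X) (hz : z ∈ W) (hgz : g z ∈ V) :
    X.presheaf.germ W z hz (g.appLE V W h s) = g.stalkMap z (Y.presheaf.germ V (g z) hgz s) := by
  rw [Scheme.Hom.germ_stalkMap_apply, Scheme.Hom.appLE, CommRingCat.comp_apply,
    TopCat.Presheaf.germ_res_apply]

/-- If a prime of an affine open is generated by pulled-back sections then the point is the only
maximal point of its fibre, which is reduced there; pulled-back sections give pulled-back functions. -/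
theorem fibre_of_generators {X Y : Scheme.{u}} (g : X ⟶ Y) {V : Y.Opens} {W : X.Opens}
    (hWa : IsAffineOpen W) (hW : W = g ⁻¹ᵁ V) (ξ : X) (hξ : ξ ∈ W) (T : Set Γ(X, W))
    (hT : Ideal.span T = (hWa.primeIdealOf ⟨ξ, hξ⟩).asIdeal)
    (hlift : ∀ t ∈ T, ∃ s, g.appLE V W hW.le s = t) :
    (∀ z, g z = g ξ → ξ ⤳ z) ∧
      Ideal.map (g.stalkMap ξ).hom (maximalIdeal _) = maximalIdeal (X.presheaf.stalk ξ) := by
  have hgξ : g ξ ∈ V := hW.le hξ
  letI : Algebra Γ(X, W) (X.presheaf.stalk ξ) := TopCat.Presheaf.algebra_section_stalk X.presheaf ⟨ξ, hξ⟩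
  haveI : IsLocalization.AtPrime (X.presheaf.stalk ξ) (hWa.primeIdealOf ⟨ξ, hξ⟩).asIdeal :=
    hWa.isLocalization_stalk ⟨ξ, hξ⟩
  have hmap : Ideal.map (algebraMap Γ(X, W) (X.presheaf.stalk ξ)) (hWa.primeIdealOf ⟨ξ, hξ⟩).asIdeal =
      maximalIdeal (X.presheaf.stalk ξ) :=
    IsLocalization.AtPrime.map_eq_maximalIdeal _ _
  have hs : ∀ t ∈ T, ∃ s, g.appLE V W hW.le s = t ∧
      Y.presheaf.germ V (g ξ) hgξ s ∈ maximalIdeal _ := by
    intro t ht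
    obtain ⟨s, hs⟩ := hlift t ht
    refine ⟨s, hs, fun hu => ?_⟩
    have h1 : algebraMap Γ(X, W) (X.presheaf.stalk ξ) t ∈ maximalIdeal _ :=
      hmap ▸ Ideal.mem_map_of_mem _ (hT ▸ Ideal.subset_span ht)
    have e : algebraMap Γ(X, W) (X.presheaf.stalk ξ) t = X.presheaf.germ W ξ hξ t := rfl
    rw [e, ← hs, germ_appLE g hW.le s ξ hξ hgξ] at h1
    exact h1 (hu.map _)
  refine ⟨fun z hz => ?_, ?_⟩
  · have hgz : g z ∈ V := hz ▸ hgξ
    have hzW : z ∈ W := hW.ge hgz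
    letI : Algebra Γ(X, W) (X.presheaf.stalk z) := TopCat.Presheaf.algebra_section_stalk X.presheaf ⟨z, hzW⟩
    haveI : IsLocalization.AtPrime (X.presheaf.stalk z) (hWa.primeIdealOf ⟨z, hzW⟩).asIdeal :=
      hWa.isLocalization_stalk ⟨z, hzW⟩
    have hle : (hWa.primeIdealOf ⟨ξ, hξ⟩).asIdeal ≤ (hWa.primeIdealOf ⟨z, hzW⟩).asIdeal := by
      rw [← hT, Ideal.span_le]
      intro t ht
      obtain ⟨s, hs, hm⟩ := hs t ht
      by_contra hn
      have hu : IsUnit (algebraMap Γ(X, W) (X.presheaf.stalk z) t) :=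
        IsLocalization.map_units _ (⟨t, hn⟩ : (hWa.primeIdealOf ⟨z, hzW⟩).asIdeal.primeCompl)
      have e : algebraMap Γ(X, W) (X.presheaf.stalk z) t = X.presheaf.germ W z hzW t := rfl
      rw [e, ← hs, germ_appLE g hW.le s z hzW hgz] at hu
      have hu' := isUnit_of_map_unit (g.stalkMap z).hom _ hu
      have : IsUnit (Y.presheaf.germ V (g ξ) hgξ s) := by
        rw [← Scheme.mem_basicOpen] at hu' ⊢
        exact hz ▸ hu'
      exact hm this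
    have := ((PrimeSpectrum.le_iff_specializes _ _).1 hle).map hWa.fromSpec.continuous
    rwa [hWa.fromSpec_primeIdealOf, hWa.fromSpec_primeIdealOf] at this
  · refine le_antisymm (Ideal.map_le_iff_le_comap.2 fun t ht hu => ht (isUnit_of_map_unit _ _ hu)) ?_
    rw [← hmap, ← hT, Ideal.map_span, Ideal.span_le]
    rintro _ ⟨t, ht, rfl⟩
    obtain ⟨s, hs', hm⟩ := hs t ht
    have e : algebraMap Γ(X, W) (X.presheaf.stalk ξ) t = X.presheaf.germ W ξ hξ t := rfl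
    rw [e, ← hs', germ_appLE g hW.le s ξ hξ hgξ]
    exact Ideal.mem_map_of_mem _ hm

theorem residueFieldMap_frac {X Y : Scheme.{u}} (g : X ⟶ Y) {V : Y.Opens} {W : X.Opens} (hW : W ≤ g ⁻¹ᵁ V)
    (ξ : X) (hξ : ξ ∈ W) (q : X.presheaf.stalk ξ) (a b : Γ(Y, V))
    (hb : IsUnit (X.presheaf.germ W ξ hξ (g.appLE V W hW b)))
    (hq : q * X.presheaf.germ W ξ hξ (g.appLE V W hW b) = X.presheaf.germ W ξ hξ (g.appLE V W hW a)) :
    ∃ u, g.residueFieldMap ξ u = X.residue ξ q := by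
  have hgξ : g ξ ∈ V := hW hξ
  refine ⟨Y.residue _ (Y.presheaf.germ V (g ξ) hgξ a) / Y.residue _ (Y.presheaf.germ V (g ξ) hgξ b), ?_⟩
  have key : ∀ v : Y.presheaf.stalk (g ξ),
      g.residueFieldMap ξ (Y.residue _ v) = X.residue ξ (g.stalkMap ξ v) := fun v => by
    rw [← CommRingCat.comp_apply, Scheme.residue_residueFieldMap]; rfl
  rw [map_div₀, key, key, ← germ_appLE g hW a ξ hξ hgξ, ← germ_appLE g hW b ξ hξ hgξ, ← hq, map_mul,
    mul_div_assoc, div_self (hb.map (X.residue ξ).hom).ne_zero, mul_one]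

variable {I : Type u} [Preorder I] [IsDirected I (fun a b => a ≤ b)] [Nonempty I]
  {D : Iᵒᵖ ⥤ Scheme.{u}} {c : Cone D} (hc : IsLimit c)
  [∀ {i j : Iᵒᵖ} (f : i ⟶ j), IsAffineHom (D.map f)]

/-- The projection, typed with domain `c.pt`. -/
abbrev pr (c : Cone D) (i : Iᵒᵖ) : c.pt ⟶ D.obj i := c.π.app i

omit [IsDirected I (fun a b => a ≤ b)] [Nonempty I] [∀ {i j : Iᵒᵖ} (f : i ⟶ j), IsAffineHom (D.map f)] in
theorem pr_comp (c : Cone D) {i j : Iᵒᵖ} (φ : j ⟶ i) : pr c j ≫ D.map φ = pr c i := c.w φ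

omit [IsDirected I (fun a b => a ≤ b)] [Nonempty I] [∀ {i j : Iᵒᵖ} (f : i ⟶ j), IsAffineHom (D.map f)] in
theorem preimage_pr (c : Cone D) {i j : Iᵒᵖ} (φ : j ⟶ i) (V : (D.obj i).Opens) :
    pr c j ⁻¹ᵁ (D.map φ ⁻¹ᵁ V) = pr c i ⁻¹ᵁ V := by
  rw [← Scheme.Hom.comp_preimage, pr_comp]

include hc

theorem exists_lift_section (i : Iᵒᵖ) {V : (D.obj i).Opens} (hV : IsAffineOpen V)
    (t : Γ(c.pt, pr c i ⁻¹ᵁ V)) :
    ∃ (j : Iᵒᵖ) (φ : j ⟶ i) (h : pr c i ⁻¹ᵁ V ≤ pr c j ⁻¹ᵁ (D.map φ ⁻¹ᵁ V))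
      (s : Γ(D.obj j, D.map φ ⁻¹ᵁ V)), (pr c j).appLE _ _ h s = t := by
  haveI (j : Over i) : IsAffine ((opensDiagram D i V).obj j) := hV.preimage (D.map j.hom)
  obtain ⟨j, t', ht⟩ := exists_appTop_π_eq_of_isAffine_of_isLimit _ _
    (isLimitOpensCone D c hc i V) ((pr c i ⁻¹ᵁ V).topIso.inv t)
  refine ⟨j.left, j.hom, (preimage_pr c _ V).ge,
    (D.map j.hom ⁻¹ᵁ V).topIso.hom t', ?_⟩
  have ht' := congr((pr c i ⁻¹ᵁ V).topIso.hom $ht)
  rw [Iso.inv_hom_id_apply] at ht'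
  exact (topIso_resLE (pr c j.left) (preimage_pr c j.hom V).ge t').symm.trans ht'

omit [IsDirected I (fun a b => a ≤ b)] [Nonempty I] hc [∀ {i j : Iᵒᵖ} (f : i ⟶ j), IsAffineHom (D.map f)] in
theorem lift_section_mono {i j j' : Iᵒᵖ} {φ : j ⟶ i} (ψ : j' ⟶ j) (φ' : j' ⟶ i)
    {V : (D.obj i).Opens} {t : Γ(c.pt, pr c i ⁻¹ᵁ V)}
    (hex : ∃ (h : pr c i ⁻¹ᵁ V ≤ pr c j ⁻¹ᵁ (D.map φ ⁻¹ᵁ V))
      (s : Γ(D.obj j, D.map φ ⁻¹ᵁ V)), (pr c j).appLE _ _ h s = t) :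
    ∃ (h : pr c i ⁻¹ᵁ V ≤ pr c j' ⁻¹ᵁ (D.map φ' ⁻¹ᵁ V))
      (s : Γ(D.obj j', D.map φ' ⁻¹ᵁ V)), (pr c j').appLE _ _ h s = t := by
  obtain ⟨h, s, hs⟩ := hex
  have e : φ' = ψ ≫ φ := Subsingleton.elim _ _
  have h1 : D.map φ' ⁻¹ᵁ V ≤ D.map ψ ⁻¹ᵁ (D.map φ ⁻¹ᵁ V) := by
    rw [e, D.map_comp, Scheme.Hom.comp_preimage]
  refine ⟨(preimage_pr c _ V).ge, (D.map ψ).appLE _ _ h1 s, ?_⟩
  refine Eq.trans ?_ hs
  rw [← CommRingCat.comp_apply, Scheme.Hom.appLE_comp_appLE]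
  · simp [c.w]

theorem exists_lift_finset (i : Iᵒᵖ) {V : (D.obj i).Opens} (hV : IsAffineOpen V)
    (T : Finset Γ(c.pt, pr c i ⁻¹ᵁ V)) :
    ∃ (j : Iᵒᵖ) (φ : j ⟶ i), ∀ t ∈ T,
      ∃ (h : pr c i ⁻¹ᵁ V ≤ pr c j ⁻¹ᵁ (D.map φ ⁻¹ᵁ V))
        (s : Γ(D.obj j, D.map φ ⁻¹ᵁ V)), (pr c j).appLE _ _ h s = t := by
  classical
  choose j φ h using fun t => exists_lift_section hc i hV t
  obtain ⟨m, hm⟩ := IsCofiltered.inf_objs_exists (insert i (T.image j))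
  obtain ⟨φm⟩ := hm (Finset.mem_insert_self i _)
  refine ⟨m, φm, fun t ht => ?_⟩
  obtain ⟨ψ⟩ := hm (Finset.mem_insert_of_mem (Finset.mem_image_of_mem j ht))
  exact lift_section_mono ψ φm (h t)

/-- Every point of the limit, with a rational function at it, comes from some stage: the fibre
through it consists of its specializations, is reduced there, and the function is pulled back. -/
theorem exists_descent [IsLocallyNoetherian c.pt] (ξ : c.pt) (f : c.pt.residueField ξ) :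
    ∃ j : Iᵒᵖ, (∀ z, pr c j z = pr c j ξ → ξ ⤳ z) ∧
      Ideal.map ((pr c j).stalkMap ξ).hom (maximalIdeal _) = maximalIdeal (c.pt.presheaf.stalk ξ) ∧
      ∃ a, (pr c j).residueFieldMap ξ a = f := by
  classical
  obtain ⟨i⟩ := (inferInstance : Nonempty Iᵒᵖ)
  obtain ⟨V, hV, hxV, -⟩ :=
    exists_isAffineOpen_mem_and_subset (x := pr c i ξ) (U := ⊤) trivial
  haveI : IsAffineHom (pr c i) := isAffineHom_π_app D c hc i
  have hWa : IsAffineOpen (pr c i ⁻¹ᵁ V) := hV.preimage _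
  letI : Algebra Γ(c.pt, pr c i ⁻¹ᵁ V) (c.pt.presheaf.stalk ξ) :=
    TopCat.Presheaf.algebra_section_stalk c.pt.presheaf ⟨ξ, hxV⟩
  haveI : IsLocalization.AtPrime (c.pt.presheaf.stalk ξ) (hWa.primeIdealOf ⟨ξ, hxV⟩).asIdeal :=
    hWa.isLocalization_stalk ⟨ξ, hxV⟩
  haveI : IsNoetherianRing Γ(c.pt, pr c i ⁻¹ᵁ V) :=
    IsLocallyNoetherian.component_noetherian (⟨_, hWa⟩ : c.pt.affineOpens)
  obtain ⟨T, hT⟩ := IsNoetherian.noetherian (hWa.primeIdealOf ⟨ξ, hxV⟩).asIdeal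
  obtain ⟨q, rfl⟩ := c.pt.residue_surjective ξ f
  obtain ⟨⟨a, b⟩, hq⟩ := IsLocalization.surj (hWa.primeIdealOf ⟨ξ, hxV⟩).asIdeal.primeCompl q
  obtain ⟨j, φ, hlift⟩ := exists_lift_finset hc i hV (insert a (insert (b : Γ(c.pt, pr c i ⁻¹ᵁ V)) T))
  obtain ⟨h1, h2⟩ := fibre_of_generators (pr c j) hWa (preimage_pr c φ V).symm ξ hxV
    (T : Set Γ(c.pt, pr c i ⁻¹ᵁ V)) hT fun t ht => by
      obtain ⟨_, s, hs⟩ := hlift t (Finset.mem_insert_of_mem (Finset.mem_insert_of_mem ht))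
      exact ⟨s, hs⟩
  obtain ⟨h, sa, hsa⟩ := hlift a (Finset.mem_insert_self _ _)
  obtain ⟨_, sb, hsb⟩ := hlift _ (Finset.mem_insert_of_mem (Finset.mem_insert_self _ _))
  refine ⟨j, h1, h2, residueFieldMap_frac (pr c j) h ξ hxV q sa sb ?_ ?_⟩
  · rw [hsb]; exact IsLocalization.map_units _ b
  · rw [hsa, hsb]; exact hq

end Groth.Agent.CycLim
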