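import Groth.Agent.CycLim.Basic
import Groth.Agent.H23.FlatPushPull
import Groth.Agent.H23.RatEquivPull

/-! The colimit of the cycle groups along an inverse system with affine flat transition maps. -/

set_option autoImplicit false
set_option linter.style.haveILetI false

universe u

open AlgebraicGeometry CategoryTheory Limits IsLocalRing

namespace Groth.Agent.CycLim

open Groth.Agent H23 FiniteFibreSum FlatShift

/-- Finitely many points of the support of a cycle on a quasi-compact scheme. -/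
theorem finite_support_of_compact {X : Scheme.{u}} [CompactSpace X] (α : AlgebraicCycle X ℤ) :
    (Function.support α).Finite := by
  simpa using α.locallyFiniteSupport.finite_inter_support_of_isCompact isCompact_univ

/-- A reduced fibre with a unique maximal point pulls back a point to a point. -/
theorem pullFun_point {X Y : Scheme.{u}} [IsLocallyNoetherian X] (g : X ⟶ Y) {δX : X → ℤ} {δY : Y → ℤ}
    (hc : HasShift g δX δY 0) (hd : Cyc.IsDimFun X δX) {ξ : X}
    (h1 : ∀ z, g z = g ξ → ξ ⤳ z)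
    (h2 : Ideal.map (g.stalkMap ξ).hom (maximalIdeal _) = maximalIdeal (X.presheaf.stalk ξ)) (n : ℤ) :
    FibDim.FibMax g ξ ∧ fibreLen g ξ = 1 ∧
      Cyc.pullFun g δX δY 0 (({g ξ} : Set Y).indicator fun _ => n) = ({ξ} : Set X).indicator fun _ => n := by
  have hmax : FibDim.FibMax g ξ := (fibMax_iff g ξ).2 fun y e s => (s.antisymm (h1 y e)).eq
  have hlen : fibreLen g ξ = 1 := by
    rw [fibreLen, h2, Module.length_eq_one_iff, isSimpleModule_iff_isCoatom]
    exact Ideal.isMaximal_def.1 inferInstance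
  refine ⟨hmax, hlen, funext fun z => ?_⟩
  classical
  rw [C1Pull.pullFun_eq hc hd]
  by_cases hz : z = ξ
  · subst hz
    rw [if_pos hmax, hlen, Set.indicator_of_mem (Set.mem_singleton _), Set.indicator_of_mem (Set.mem_singleton _)]
    simp
  · rw [Set.indicator_of_notMem (s := ({ξ} : Set X)) (by simpa using hz)]
    split_ifs with hm
    · rw [Set.indicator_of_notMem (fun hg : g z ∈ ({g ξ} : Set Y) =>
        hz (((fibMax_iff g z).1 hm ξ hg.symm (h1 z hg)).symm)), zero_mul]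
    · rfl

variable {I : Type u} [Preorder I] [IsDirected I (fun a b => a ≤ b)] [Nonempty I]
  {D : Iᵒᵖ ⥤ Scheme.{u}} {c : Cone D} (hc : IsLimit c)
  [∀ {i j : Iᵒᵖ} (f : i ⟶ j), IsAffineHom (D.map f)] [∀ {i j : Iᵒᵖ} (f : i ⟶ j), Flat (D.map f)]
  [∀ i, Flat (pr c i)] [∀ i, CompactSpace (D.obj i)]
  {δ : (i : Iᵒᵖ) → D.obj i → ℤ} {δ' : c.pt → ℤ}
  (hset : ∀ i, Cyc.IsSetup (D.obj i) (δ i)) (hset' : Cyc.IsSetup c.pt δ')
  (hshift : ∀ (i j : Iᵒᵖ) (f : i ⟶ j), HasShift (D.map f) (δ i) (δ j) 0)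
  (hshift' : ∀ i, HasShift (pr c i) δ' (δ i) 0)

include hset hset' hshift hshift'

omit [IsDirected I (fun a b => a ≤ b)] [Nonempty I] [∀ {i j : Iᵒᵖ} (f : i ⟶ j), IsAffineHom (D.map f)]
  [∀ {i j : Iᵒᵖ} (f : i ⟶ j), Flat (D.map f)] [∀ i, CompactSpace (D.obj i)] in
/-- Pull-back to a stage and then to the limit. -/
theorem pull_trans {i j : Iᵒᵖ} (φ : j ⟶ i) (α : D.obj i → ℤ) :
    Cyc.pullFun (pr c j) δ' (δ j) 0 (Cyc.pullFun (D.map φ) (δ j) (δ i) 0 α) =
      Cyc.pullFun (pr c i) δ' (δ i) 0 α := by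
  haveI := (hset i).1; haveI := (hset j).1; haveI := hset'.1
  rw [pullFun_comp_of_le (pr c j) (D.map φ) δ' (δ j) (δ i) (fun x => (hshift' j).le hset'.2.2 x)
    (fun y => (hshift j i φ).le (hset j).2.2 y), pr_comp, add_zero]

omit [IsDirected I (fun a b => a ≤ b)] [Nonempty I] [∀ i, CompactSpace (D.obj i)] [∀ i, Flat (pr c i)]
  [∀ {i j : Iᵒᵖ} (f : i ⟶ j), IsAffineHom (D.map f)] hset' hshift' in
theorem pull_trans' {i j l : Iᵒᵖ} (φ : j ⟶ i) (ψ : l ⟶ j) (α : D.obj i → ℤ) :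
    Cyc.pullFun (D.map ψ) (δ l) (δ j) 0 (Cyc.pullFun (D.map φ) (δ j) (δ i) 0 α) =
      Cyc.pullFun (D.map (ψ ≫ φ)) (δ l) (δ i) 0 α := by
  haveI := (hset i).1; haveI := (hset j).1; haveI := (hset l).1
  rw [pullFun_comp_of_le (D.map ψ) (D.map φ) (δ l) (δ j) (δ i) (fun x => (hshift l j ψ).le (hset l).2.2 x)
    (fun y => (hshift j i φ).le (hset j).2.2 y), ← D.map_comp, add_zero]

include hc

omit [∀ {i j : Iᵒᵖ} (f : i ⟶ j), Flat (D.map f)] [∀ i, Flat (pr c i)] in
/-- A cycle which dies in the limit dies at some stage. -/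
theorem exists_pull_eq_zero (i : Iᵒᵖ) (α : AlgebraicCycle (D.obj i) ℤ)
    (h0 : Cyc.pullFun (pr c i) δ' (δ i) 0 ⇑α = 0) :
    ∃ (j : Iᵒᵖ) (f : j ⟶ i), Cyc.pullFun (D.map f) (δ j) (δ i) 0 ⇑α = 0 := by
  classical
  haveI := (hset i).1; haveI := hset'.1
  have hsupp := finite_support_of_compact α
  have hempty : ∀ ξ ∈ hsupp.toFinset, ∃ (j : Iᵒᵖ) (φ : j ⟶ i), ξ ∉ Set.range (D.map φ) := by
    intro ξ hξ
    by_contra! hall
    obtain ⟨x, hx⟩ := MorLib.LimPts.mem_range_π hc ξ hall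
    obtain ⟨z, -, hzx, hzmax⟩ := exists_fibMax_gen (pr c i) x
    have h1 := congrFun h0 z
    rw [C1Pull.pullFun_eq (hshift' i) hset'.2.2, if_pos hzmax, hzx] at h1
    simp only [Pi.zero_apply, mul_eq_zero] at h1
    have hα : α ξ ≠ 0 := by simpa using hξ
    rcases h1 with h1 | h1
    · exact hα (hx ▸ h1)
    · obtain ⟨hne0, htop⟩ : fibreLen (pr c i) z ≠ 0 ∧ fibreLen (pr c i) z ≠ ⊤ := fibreLen_pos hzmax
      exact (ENat.toNat_eq_zero.1 (by exact_mod_cast h1)).elim hne0 htop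
  choose j φ hj using hempty
  obtain ⟨m, hm⟩ := IsCofiltered.inf_objs_exists (insert i (hsupp.toFinset.attach.image fun ξ : {x // x ∈ hsupp.toFinset} => j ξ.1 ξ.2))
  obtain ⟨φm⟩ := hm (Finset.mem_insert_self i _)
  refine ⟨m, φm, funext fun y => ?_⟩
  simp only [Cyc.pullFun, Pi.zero_apply]
  split_ifs
  · by_cases hy : α (D.map φm y) = 0
    · rw [hy, zero_mul]
    · exfalso
      have hmem : D.map φm y ∈ hsupp.toFinset := by simpa using hy
      obtain ⟨ψ⟩ := hm (Finset.mem_insert_of_mem (Finset.mem_image_of_mem _ (Finset.mem_attach _ ⟨_, hmem⟩)))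
      refine hj _ hmem ⟨D.map ψ y, ?_⟩
      rw [← Scheme.Hom.comp_apply, ← D.map_comp, Subsingleton.elim (ψ ≫ φ _ hmem) φm]
  · rfl
where
  fibreLen_pos {X Y : Scheme.{u}} [IsLocallyNoetherian X] {g : X ⟶ Y} {z : X} (hz : FibDim.FibMax g z) :
      fibreLen g z ≠ 0 ∧ fibreLen g z ≠ ⊤ := by
    refine ⟨fun e => ?_, fibreLen_ne_top g hz⟩
    rw [fibreLen, Module.length_eq_zero_iff, Ideal.Quotient.subsingleton_iff] at e
    exact (maximalIdeal.isMaximal (X.presheaf.stalk z)).ne_top (top_le_iff.1 (e ▸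
      Ideal.map_le_iff_le_comap.2 fun t ht hu => ht (isUnit_of_map_unit (g.stalkMap z).hom t hu)))

/-- Every cycle on the limit comes from a stage. -/
theorem exists_pull_eq (k : ℤ) (α' : AlgebraicCycle c.pt ℤ) (hα' : α' ∈ Cyc.Zk c.pt δ' k) :
    ∃ (i : Iᵒᵖ) (α : AlgebraicCycle (D.obj i) ℤ), α ∈ Cyc.Zk (D.obj i) (δ i) k ∧
      Cyc.pullFun (pr c i) δ' (δ i) 0 ⇑α = ⇑α' := by
  classical
  haveI := hset'.1
  haveI := Scheme.compactSpace_of_isLimit D c hc
  choose j h1 h2 h3 using fun ξ : c.pt => exists_descent hc ξ 1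
  have hsupp := finite_support_of_compact α'
  obtain ⟨m, hm⟩ := IsCofiltered.inf_objs_exists (hsupp.toFinset.image j)
  have hφ : ∀ ξ ∈ hsupp.toFinset, Nonempty (m ⟶ j ξ) := fun ξ hξ => hm (Finset.mem_image_of_mem _ hξ)
  let G : c.pt → D.obj m → ℤ := fun ξ => if h : Nonempty (m ⟶ j ξ) then
    Cyc.pullFun (D.map h.some) (δ m) (δ (j ξ)) 0 (({pr c (j ξ) ξ} : Set _).indicator fun _ => α' ξ) else 0
  haveI := (hset m).1
  have hG : ∀ ξ ∈ hsupp.toFinset, Cyc.pullFun (pr c m) δ' (δ m) 0 (G ξ) =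
      ({ξ} : Set c.pt).indicator fun _ => α' ξ := fun ξ hξ => by
    have hne := hφ ξ hξ
    simp only [G, dif_pos hne]
    rw [pull_trans hset hset' hshift hshift']
    exact (pullFun_point _ (hshift' _) hset'.2.2 (h1 ξ) (h2 ξ) _).2.2
  let F : D.obj m → ℤ := fun y => ∑ ξ ∈ hsupp.toFinset, G ξ y
  have hF : Function.support F ⊆ ⋃ ξ ∈ hsupp.toFinset, Function.support (G ξ) :=
    fun y hy => by
      obtain ⟨ξ, hξ, hne⟩ := Finset.exists_ne_zero_of_sum_ne_zero hy
      exact Set.mem_biUnion hξ hne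
  have hloc : ∀ ξ ∈ hsupp.toFinset, (Function.support (G ξ)).Finite := fun ξ hξ => by
    simp only [G, dif_pos (hφ ξ hξ)]
    haveI := (hset (j ξ)).1
    set p := D.map (hφ ξ hξ).some
    refine (finite_gens_inter_compact p (pr c (j ξ) ξ)).subset fun y hy => ?_
    rw [Function.mem_support, C1Pull.pullFun_eq (hshift _ _ _) (hset m).2.2] at hy
    split_ifs at hy with hmax
    · exact ⟨by_contra fun hne => hy (by rw [Set.indicator_of_notMem (by simpa using hne), zero_mul]), hmax⟩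
    · exact absurd rfl hy
  let α : AlgebraicCycle (D.obj m) ℤ :=
    { toFun := F
      supportWithinDomain' := fun _ _ => trivial
      supportLocallyFiniteWithinDomain' := fun z _ => ⟨Set.univ, Filter.univ_mem,
        ((hsupp.toFinset.finite_toSet.biUnion hloc).subset hF).subset Set.inter_subset_right⟩ }
  refine ⟨m, α, fun y hy => ?_, funext fun x => ?_⟩
  · refine Finset.sum_eq_zero fun ξ hξ => ?_
    simp only [G, dif_pos (hφ ξ hξ), Cyc.pullFun]
    split_ifs with hyk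
    · rw [Set.indicator_of_notMem, zero_mul]
      intro hmem
      obtain ⟨hmax, -, -⟩ := pullFun_point _ (hshift' (j ξ)) hset'.2.2 (h1 ξ) (h2 ξ) 0
      have e1 := (hshift' (j ξ)).eq_of_fibMax hmax
      have e2 : δ' ξ = k := by by_contra h; exact (hsupp.mem_toFinset.1 hξ) (hα' ξ h)
      rw [Set.mem_singleton_iff] at hmem
      apply hy; rw [hyk, hmem]; omega
    · rfl
  · have hsum : Cyc.pullFun (pr c m) δ' (δ m) 0 F x =
        ∑ ξ ∈ hsupp.toFinset, Cyc.pullFun (pr c m) δ' (δ m) 0 (G ξ) x := by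
      simp only [Cyc.pullFun, F]
      split_ifs
      · rw [Finset.sum_mul]
      · rw [Finset.sum_const_zero]
    show Cyc.pullFun (pr c m) δ' (δ m) 0 F x = α' x
    rw [hsum, Finset.sum_congr rfl fun ξ hξ => congrFun (hG ξ hξ) x]
    simp only [Set.indicator_apply, Set.mem_singleton_iff]
    rw [Finset.sum_ite_eq hsupp.toFinset x]
    split_ifs with h
    · rfl
    · exact (not_not.1 fun h' => h (hsupp.mem_toFinset.2 h')).symm
where
  finite_gens_inter_compact {X Y : Scheme.{u}} [CompactSpace X] [IsLocallyNoetherian X] (p : X ⟶ Y) (y : Y) :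
      {z : X | p z = y ∧ FibDim.FibMax p z}.Finite := by
    simpa using DivPull.finite_gens_inter p y (V := (Set.univ : Set X)) isCompact_univ

/-- Rational equivalence to zero in the limit comes from a stage. -/
theorem exists_pull_ratEquivZero (k : ℤ) (i : Iᵒᵖ) (α : AlgebraicCycle (D.obj i) ℤ)
    (α' : AlgebraicCycle c.pt ℤ) (hα' : ⇑α' = Cyc.pullFun (pr c i) δ' (δ i) 0 ⇑α)
    (h0 : Cyc.RatEquivZero δ' k α') :
    ∃ (j : Iᵒᵖ) (f : j ⟶ i) (αj : AlgebraicCycle (D.obj j) ℤ),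
      ⇑αj = Cyc.pullFun (D.map f) (δ j) (δ i) 0 ⇑α ∧ Cyc.RatEquivZero (δ j) k αj := by
  classical
  haveI := hset'.1
  haveI : ∀ i, IsLocallyNoetherian (D.obj i) := fun i => (hset i).1
  haveI := Scheme.compactSpace_of_isLimit D c hc
  obtain ⟨ι, ξ, f, hξ, hf, hloc, hsum⟩ := h0
  choose U hUo hxU hUfin using hloc
  obtain ⟨S, hS⟩ := isCompact_univ.elim_finite_subcover U hUo fun x _ => Set.mem_iUnion.2 ⟨x, hxU x⟩
  haveI : Finite ι := by
    refine Set.finite_univ_iff.1 ((S.finite_toSet.biUnion fun x _ => hUfin x).subset fun a _ => ?_)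
    obtain ⟨x, hxS, hx⟩ := Set.mem_iUnion₂.1 (hS (Set.mem_univ (ξ a)))
    exact Set.mem_biUnion hxS ⟨ξ a, subset_closure rfl, hx⟩
  haveI := Fintype.ofFinite ι
  choose j h1 h2 g hg using fun a => exists_descent hc (ξ a) (f a)
  obtain ⟨m, hm⟩ := IsCofiltered.inf_objs_exists (insert i (Finset.univ.image j))
  obtain ⟨φm⟩ := hm (Finset.mem_insert_self i _)
  let ψ : ∀ a, m ⟶ j a := fun a =>
    (hm (Finset.mem_insert_of_mem (Finset.mem_image_of_mem j (Finset.mem_univ a)))).some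
  have hk : ∀ a, δ (j a) (pr c (j a) (ξ a)) = k + 1 := fun a => by
    have := (hshift' (j a)).eq_of_fibMax (pullFun_point _ (hshift' (j a)) hset'.2.2 (h1 a) (h2 a) 0).1
    rw [hξ] at this
    omega
  have hg0 : ∀ a, g a ≠ 0 := fun a h => hf a (by rw [← hg a, h, map_zero])
  let B : ∀ a, AlgebraicCycle (D.obj (j a)) ℤ := fun a => CycLib.sumDiv (hset _).2.2
    (fun _ : PUnit.{u+1} => pr c (j a) (ξ a)) (fun _ => g a) (fun _ => hg0 a)
    (fun _ => ⟨Set.univ, isOpen_univ, trivial, Set.toFinite _⟩)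
  have hBfun : ∀ a, ⇑(B a) = Cyc.divFun (δ (j a)) (pr c (j a) (ξ a)) (g a) := fun a => funext fun x => by
    rw [CycLib.sumDiv_apply, finsum_unique]
  have hB : ∀ a, Cyc.RatEquivZero (δ (j a)) k (B a) := fun a =>
    ⟨PUnit.{u+1}, _, _, fun _ => hk a, fun _ => hg0 a,
      fun _ => ⟨Set.univ, isOpen_univ, trivial, Set.toFinite _⟩, fun x => CycLib.sumDiv_apply _ _ _ _ _ x⟩
  let P : ∀ a, AlgebraicCycle (D.obj m) ℤ := fun a =>
    FlatClass.pullCycle (hshift _ _ (ψ a)) (hset m).2.2 (B a)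
  have hP : ∀ a, RatOn.ZeroOn (δ m) k Set.univ ⇑(P a) := fun a => RatOn.of_ratEquivZero (by
    simpa using DivPull.ratEquivZero_pull (D.map (ψ a)) (hshift _ _ _) (hset _).2.2 (hset m).2.2 (hB a) (P a) rfl)
  have hPsum : RatOn.ZeroOn (δ m) k Set.univ ⇑(∑ a, P a) :=
    RatOn.congr (RatOn.sum (hset m).2.2 (fun _ : ι => (1 : ℤ)) (fun a => ⇑(P a)) (fun _ => Set.univ)
      (fun _ => le_rfl) hP fun x => ⟨Set.univ, isOpen_univ, trivial, Set.toFinite _⟩) fun x => by
        rw [finsum_eq_sum_of_fintype]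
        simp [Function.locallyFinsuppWithin.coe_sum]
  have hpullP : ∀ a x, Cyc.pullFun (pr c m) δ' (δ m) 0 ⇑(P a) x = Cyc.divFun δ' (ξ a) (f a) x := fun a x => by
    show Cyc.pullFun (pr c m) δ' (δ m) 0 (Cyc.pullFun (D.map (ψ a)) (δ m) (δ (j a)) 0 ⇑(B a)) x = _
    rw [pull_trans hset hset' hshift hshift', hBfun, DivPull.pullFun_divFun (pr c (j a)) (hshift' _)
      (hset _).2.2 hset'.2.2 (hg0 a)]
    obtain ⟨hmax, hlen, -⟩ := pullFun_point _ (hshift' (j a)) hset'.2.2 (h1 a) (h2 a) 0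
    rw [show {z : c.pt | pr c (j a) z = pr c (j a) (ξ a) ∧ FibDim.FibMax (pr c (j a)) z} = {ξ a} from
      Set.eq_singleton_iff_unique_mem.2 ⟨⟨rfl, hmax⟩,
        fun z hz => ((fibMax_iff _ z).1 hz.2 (ξ a) hz.1.symm (h1 a z hz.1)).symm⟩,
      finsum_mem_singleton, DivPull.term, dif_pos rfl, DivPull.pullRes_rfl, hlen, hg]
    simp
  let αm := FlatClass.pullCycle (hshift _ _ φm) (hset m).2.2 α
  obtain ⟨l, θ, hθ⟩ := exists_pull_eq_zero hc hset hset' hshift hshift' m (αm - ∑ a, P a) (funext fun x => by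
    have hlin : ∀ F G : D.obj m → ℤ, Cyc.pullFun (pr c m) δ' (δ m) 0 (F - G) x =
        Cyc.pullFun (pr c m) δ' (δ m) 0 F x - Cyc.pullFun (pr c m) δ' (δ m) 0 G x := fun F G => by
      simp only [Cyc.pullFun, Pi.sub_apply]; split_ifs <;> ring
    rw [Function.locallyFinsuppWithin.coe_sub, hlin, Pi.zero_apply, sub_eq_zero]
    show Cyc.pullFun (pr c m) δ' (δ m) 0 (Cyc.pullFun (D.map φm) (δ m) (δ i) 0 ⇑α) x = _
    rw [pull_trans hset hset' hshift hshift', ← hα', hsum x, finsum_eq_sum_of_fintype,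
      Finset.sum_congr rfl fun a _ => (hpullP a x).symm]
    simp only [Cyc.pullFun, Function.locallyFinsuppWithin.coe_sum, Finset.sum_apply]
    split_ifs
    · rw [Finset.sum_mul]
    · rw [Finset.sum_const_zero])
  refine ⟨l, θ ≫ φm, FlatClass.pullCycle (hshift _ _ (θ ≫ φm)) (hset l).2.2 α, rfl, ?_⟩
  have hz := DivPull.ratEquivZero_pull (D.map θ) (hshift _ _ θ) (hset m).2.2 (hset l).2.2
    (RatOn.ratEquivZero hPsum) (FlatClass.pullCycle (hshift _ _ θ) (hset l).2.2 (∑ a, P a)) rfl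
  rw [add_zero] at hz
  convert hz using 1
  refine DFunLike.coe_injective ?_
  show Cyc.pullFun (D.map (θ ≫ φm)) (δ l) (δ i) 0 ⇑α = Cyc.pullFun (D.map θ) (δ l) (δ m) 0 ⇑(∑ a, P a)
  rw [← pull_trans' hset hshift φm θ]
  funext x
  have hx := congrFun hθ x
  simp only [Cyc.pullFun, Function.locallyFinsuppWithin.coe_sub, Pi.sub_apply, Pi.zero_apply] at hx ⊢
  change (if _ then ((Cyc.pullFun (D.map φm) (δ m) (δ i) 0 ⇑α _) - _) * _ else _) = _ at hx
  simp only [Cyc.pullFun] at hx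
  split_ifs at hx ⊢ <;> linarith

end Groth.Agent.CycLim
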